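import Mathlib
import Cfsg.Agent.FastGrp
import Cfsg.Agent.Prune
set_option linter.all false
prune_inst 0x7f00000000000000000000000000000000000000000000000000000000000000000000000000000000000000000000000000000000000000000000000000000000000000000000000000000000000000003fffffffffffffffffffffffffffbeffbdffffffff
open scoped Cfsg.Agent.FastGrp

/-!
# Frobenius groups acting on an abelian normal subgroup (helper407)

* `norm_ne` : a `p`-group `A ≠ 1` and `y` of order `N` normalizing it, all `y ^ j`, `0 < j < N`, without fixed points on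
  `A`; `W` an abelian group of exponent `l ≠ p` on which `A` acts nontrivially: `∑ y ^ j` is not zero on `W`;
* `exists_order` : the same for a group extension: an element of order `l r` (`N = r ≠ l` prime), `l ^ (b + 1)`
  (`N = l ^ b`).
-/

set_option autoImplicit false

namespace Cfsg.Agent.H407.MF

open Subgroup Finset
open scoped commutatorElement

universe u v w

/-- `A` is a nontrivial `p`-group, `y` of order `N` normalizes `A`, the powers `y ^ j ≠ 1` have no fixed points on `A` -/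
structure FrobAt {T : Type*} [Group T] (p N : ℕ) (A : Subgroup T) (y : T) : Prop where
  pgrp : IsPGroup p A
  ne : A ≠ ⊥
  ord : orderOf y = N
  pos : 0 < N
  nrm : ∀ a ∈ A, y * a * y⁻¹ ∈ A
  fpf : ∀ j, 0 < j → j < N → ∀ a ∈ A, y ^ j * a * (y ^ j)⁻¹ = a → a = 1

section basic

variable {T : Type*} [Group T] {p N : ℕ} {A : Subgroup T} {y : T}

theorem FrobAt.pow_nrm (h : FrobAt p N A y) (j : ℕ) {a : T} (ha : a ∈ A) : y ^ j * a * (y ^ j)⁻¹ ∈ A := by
  induction j with
  | zero => simpa using ha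
  | succ j ih =>
    have h1 : y ^ (j + 1) * a * (y ^ (j + 1))⁻¹ = y * (y ^ j * a * (y ^ j)⁻¹) * y⁻¹ := by
      rw [pow_succ']
      group
    rw [h1]
    exact h.nrm _ ih

theorem ring_sum [Finite T] {R : Type*} [Ring R] (ρ : T →* R) (h : FrobAt p N A y)
    (h0 : ∑ j ∈ range N, ρ (y ^ j) = 0) {b : T} (hb : b ∈ A) :
    ρ b * (Nat.card A : R) = (Nat.card A : R) := by
  classical
  have : Fintype A := Fintype.ofFinite A
  obtain ⟨M, rfl⟩ : ∃ M, N = M + 1 := ⟨N - 1, by have := h.pos; omega⟩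
  set s : R := ∑ a : A, ρ (a : T) with hs
  have hfix : ρ b * s = s := by
    rw [hs, mul_sum]
    refine Fintype.sum_equiv (Equiv.mulLeft (⟨b, hb⟩ : A)) _ _ fun a => ?_
    rw [← map_mul]
    rfl
  have hj : ∀ j ∈ range M, ∑ a : A, ρ ((a : T) * y ^ (j + 1) * (a : T)⁻¹) = s * ρ (y ^ (j + 1)) := by
    intro j hj
    rw [mem_range] at hj
    rw [hs, sum_mul]
    let f : A → A := fun a => ⟨(a : T) * (y ^ (j + 1) * (a : T)⁻¹ * (y ^ (j + 1))⁻¹),
      A.mul_mem a.2 (h.pow_nrm (j + 1) (A.inv_mem a.2))⟩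
    have hf : Function.Injective f := by
      intro a c hac
      have h1 : (a : T) * (y ^ (j + 1) * (a : T)⁻¹ * (y ^ (j + 1))⁻¹) =
          (c : T) * (y ^ (j + 1) * (c : T)⁻¹ * (y ^ (j + 1))⁻¹) := congrArg Subtype.val hac
      have h2 : y ^ (j + 1) * ((c : T)⁻¹ * a) * (y ^ (j + 1))⁻¹ = (c : T)⁻¹ * a := by
        have h3 : (c : T)⁻¹ * ((a : T) * (y ^ (j + 1) * (a : T)⁻¹ * (y ^ (j + 1))⁻¹)) =
            (y ^ (j + 1) * (c : T)⁻¹ * (y ^ (j + 1))⁻¹) := by
          rw [h1]
          group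
        calc y ^ (j + 1) * ((c : T)⁻¹ * a) * (y ^ (j + 1))⁻¹
            = (y ^ (j + 1) * (c : T)⁻¹ * (y ^ (j + 1))⁻¹) * (y ^ (j + 1) * a * (y ^ (j + 1))⁻¹) := by group
          _ = (c : T)⁻¹ * ((a : T) * (y ^ (j + 1) * (a : T)⁻¹ * (y ^ (j + 1))⁻¹)) *
              (y ^ (j + 1) * a * (y ^ (j + 1))⁻¹) := by rw [h3]
          _ = (c : T)⁻¹ * a := by group
      have h4 := h.fpf (j + 1) (Nat.succ_pos j) (by omega) _ (A.mul_mem (A.inv_mem c.2) a.2) h2
      exact Subtype.ext (inv_mul_eq_one.1 h4).symm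
    have hfb : Function.Bijective f := Finite.injective_iff_bijective.1 hf
    refine Fintype.sum_equiv (Equiv.ofBijective f hfb) _ _ fun a => ?_
    rw [← map_mul]
    congr 1
    change (a : T) * y ^ (j + 1) * (a : T)⁻¹ = (a : T) * (y ^ (j + 1) * (a : T)⁻¹ * (y ^ (j + 1))⁻¹) * y ^ (j + 1)
    group
  have hall : ∑ j ∈ range (M + 1), ∑ a : A, ρ ((a : T) * y ^ j * (a : T)⁻¹) = 0 := by
    rw [sum_comm]
    refine sum_eq_zero fun a _ => ?_
    have h1 : ∀ j, ρ ((a : T) * y ^ j * (a : T)⁻¹) = ρ (a : T) * ρ (y ^ j) * ρ (a : T)⁻¹ := fun j => by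
      rw [map_mul, map_mul]
    rw [sum_congr rfl fun j _ => h1 j, ← sum_mul, ← mul_sum, h0, mul_zero, zero_mul]
  rw [sum_range_succ', sum_congr rfl hj, ← mul_sum] at hall
  have h1 : ∑ j ∈ range M, ρ (y ^ (j + 1)) = -1 := by
    rw [sum_range_succ', pow_zero, map_one] at h0
    exact eq_neg_of_add_eq_zero_left h0
  have h2 : ∑ a : A, ρ ((a : T) * y ^ 0 * (a : T)⁻¹) = (Nat.card A : R) := by
    have h3 : ∀ a : A, ρ ((a : T) * y ^ 0 * (a : T)⁻¹) = 1 := fun a => by
      rw [pow_zero, mul_one, mul_inv_cancel, map_one]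
    rw [sum_congr rfl fun a _ => h3 a, sum_const, card_univ, Nat.card_eq_fintype_card, nsmul_eq_mul, mul_one]
  rw [h1, h2, mul_neg, mul_one] at hall
  have h3 : s = (Nat.card A : R) := by
    rw [neg_add_eq_zero] at hall
    exact hall
  rw [← h3]
  exact hfix

theorem norm_ne [Finite T] {W : Type*} [AddCommGroup W] (ρ : T →* AddMonoid.End W) (h : FrobAt p N A y) {l : ℕ}
    (hp : p.Prime) (hl : l.Prime) (hlp : l ≠ p) (hW : ∀ w : W, l • w = 0) (hne : ∃ b ∈ A, ρ b ≠ 1) :
    ∃ w : W, ∑ j ∈ range N, ρ (y ^ j) w ≠ 0 := by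
  by_contra hcon
  push Not at hcon
  have h0 : ∑ j ∈ range N, ρ (y ^ j) = 0 := by
    ext w
    exact (AddMonoidHom.finsetSum_apply (s := range N) (fun j => (ρ (y ^ j) : W →+ W)) w).trans (hcon w)
  obtain ⟨b, hb, hb1⟩ := hne
  apply hb1
  have h1 := ring_sum ρ h h0 hb
  have : Fact p.Prime := ⟨hp⟩
  obtain ⟨k, hk⟩ := (IsPGroup.iff_card (p := p)).1 h.pgrp
  have hco : Nat.Coprime (Nat.card A) l := by
    rw [hk]
    exact Nat.Coprime.pow_left k ((Nat.coprime_primes hp hl).2 hlp.symm)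
  ext w
  have h2 : Nat.card A • (ρ b w - w) = 0 := by
    have h3 := DFunLike.congr_fun h1 w
    have h4 : ∀ (x : W), ((Nat.card A : ℕ) : AddMonoid.End W) x = Nat.card A • x := fun x => by
      rw [AddMonoid.End.natCast_apply]
    change ρ b (((Nat.card A : ℕ) : AddMonoid.End W) w) = ((Nat.card A : ℕ) : AddMonoid.End W) w at h3
    rw [h4, map_nsmul] at h3
    rw [smul_sub, h3, sub_self]
  have h3 := hW (ρ b w - w)
  have h4 : addOrderOf (ρ b w - w) ∣ 1 := by
    rw [← hco]
    exact Nat.dvd_gcd (addOrderOf_dvd_of_nsmul_eq_zero h2) (addOrderOf_dvd_of_nsmul_eq_zero h3)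
  rw [Nat.dvd_one, AddMonoid.addOrderOf_eq_one_iff, sub_eq_zero] at h4
  exact h4

theorem FrobAt.map {T' : Type*} [Group T'] (f : T →* T') (hf : Function.Injective f) (h : FrobAt p N A y) :
    FrobAt p N (A.map f) (f y) where
  pgrp := h.pgrp.map f
  ne := fun hc => h.ne ((Subgroup.map_eq_bot_iff_of_injective A hf).1 hc)
  ord := by rw [orderOf_injective f hf, h.ord]
  pos := h.pos
  nrm := by
    rintro _ ⟨a, ha, rfl⟩
    exact ⟨y * a * y⁻¹, h.nrm a ha, by rw [map_mul, map_mul, map_inv]⟩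
  fpf := by
    rintro j hj hjN _ ⟨a, ha, rfl⟩ hc
    rw [← map_pow, ← map_inv, ← map_mul, ← map_mul] at hc
    rw [h.fpf j hj hjN a ha (hf hc), map_one]

end basic

section ext

variable {G : Type u} [Group G] [Finite G] (V : Subgroup G) [V.Normal]

/-- the commutative group structure -/
@[reducible] def comm (hVc : ∀ a ∈ V, ∀ b ∈ V, a * b = b * a) : CommGroup V :=
  { (inferInstance : Group V) with mul_comm := fun a b => Subtype.ext (hVc a a.2 b b.2) }

/-- the conjugation action of `G ⧸ V` on `V` -/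
noncomputable def cact (hVc : ∀ a ∈ V, ∀ b ∈ V, a * b = b * a) : G ⧸ V →* MulAut V :=
  QuotientGroup.lift V MulAut.conjNormal fun k hk => by
    ext a
    rw [MulAut.conjNormal_apply, hVc k hk a a.2, mul_inv_cancel_right]
    rfl

theorem cact_mk (hVc : ∀ a ∈ V, ∀ b ∈ V, a * b = b * a) (g : G) (v : V) :
    (cact V hVc (g : G ⧸ V) v : G) = g * v * g⁻¹ := rfl

variable {V}

/-- lifting of orders: an element of order a multiple of `m` gives one of order `m` -/
theorem exists_of_dvd {m : ℕ} {g : G} (hg : m ∣ orderOf g) : ∃ x : G, orderOf x = m := by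
  obtain ⟨k, hk⟩ := hg
  have hk0 : k ≠ 0 := by
    rintro rfl
    rw [mul_zero] at hk
    exact (orderOf_pos g).ne' hk
  refine ⟨g ^ k, ?_⟩
  rw [orderOf_pow_of_dvd hk0 (Dvd.intro_left _ hk.symm), hk]
  exact Nat.mul_div_cancel _ (Nat.pos_of_ne_zero hk0)

theorem orderOf_of_mem {l : ℕ} (hl : l.Prime) (hVl : ∀ a ∈ V, a ^ l = 1) {v : G} (hv : v ∈ V) (hv1 : v ≠ 1) :
    orderOf v = l := by
  have := Fact.mk hl
  exact orderOf_eq_prime (hVl v hv) hv1

/-- `v ∈ V` commuting with a lift of an element of prime order `r ≠ l` -/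
theorem order_of_comm {l r : ℕ} (hl : l.Prime) (hr : r.Prime) (hlr : l ≠ r) (hVl : ∀ a ∈ V, a ^ l = 1) {v : G}
    (hv : v ∈ V) (hv1 : v ≠ 1) {g : G} (hg : orderOf (g : G ⧸ V) = r) (hc : Commute v g) :
    ∃ x : G, orderOf x = l * r := by
  have hvo := orderOf_of_mem hl hVl hv hv1
  have hrg : r ∣ orderOf g := by
    have h3 := orderOf_map_dvd (QuotientGroup.mk' V) g
    rwa [QuotientGroup.mk'_apply, hg] at h3
  obtain ⟨m, hm⟩ := hrg
  have hm0 : m ≠ 0 := by
    rintro rfl
    rw [mul_zero] at hm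
    exact (orderOf_pos g).ne' hm
  have hgo : orderOf (g ^ m) = r := by
    rw [orderOf_pow_of_dvd hm0 (Dvd.intro_left _ hm.symm), hm]
    exact Nat.mul_div_cancel _ (Nat.pos_of_ne_zero hm0)
  refine ⟨v * g ^ m, ?_⟩
  rw [(hc.pow_right m).orderOf_mul_eq_mul_orderOf_of_coprime (by
    rw [hvo, hgo]
    exact (Nat.coprime_primes hl hr).2 hlr), hvo, hgo]

/-- products of conjugates -/
theorem mul_pow_conj (v g : G) (k : ℕ) :
    (v * g) ^ k = ((List.range k).map fun i => g ^ i * v * (g ^ i)⁻¹).prod * g ^ k := by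
  induction k with
  | zero => simp
  | succ k ih =>
    rw [pow_succ, ih, List.range_succ, List.map_append, List.prod_append, List.map_singleton, List.prod_singleton,
      pow_succ]
    group

theorem cact_pow_mk (hVc : ∀ a ∈ V, ∀ b ∈ V, a * b = b * a) (g : G) (i : ℕ) (v : V) :
    (cact V hVc ((g : G ⧸ V) ^ i) v : G) = g ^ i * v * (g ^ i)⁻¹ := by
  rw [← QuotientGroup.mk_pow, cact_mk]

/-- the additive endomorphism of an automorphism -/
def toEnd {W : Type*} [CommGroup W] : MulAut W →* AddMonoid.End (Additive W) where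
  toFun a := (MulEquiv.toAdditive a : Additive W ≃+ Additive W).toAddMonoidHom
  map_one' := rfl
  map_mul' _ _ := rfl

/-- **Element orders in the extension.** -/
theorem exists_order (hVc : ∀ a ∈ V, ∀ b ∈ V, a * b = b * a) {l : ℕ} (hl : l.Prime) (hVl : ∀ a ∈ V, a ^ l = 1)
    {T : Type v} [Group T] [Finite T] (φ : T →* G ⧸ V) (hφ : Function.Injective φ) {p N : ℕ} (hp : p.Prime)
    (hlp : l ≠ p) {A : Subgroup T} {y : T} (h : FrobAt p N A y)
    (hne : ∃ b ∈ A, cact V hVc (φ b) ≠ 1) :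
    (N.Prime → l ≠ N → ∃ g : G, orderOf g = l * N) ∧ (∀ b, N = l ^ b → ∃ g : G, orderOf g = l ^ (b + 1)) := by
  let _ : CommGroup V := comm V hVc
  let ρ : T →* AddMonoid.End (Additive V) := toEnd.comp ((cact V hVc).comp φ)
  have hρ : ∀ (t : T) (v : V), ρ t (Additive.ofMul v) = Additive.ofMul (cact V hVc (φ t) v) := fun t v => rfl
  obtain ⟨w, hw⟩ := norm_ne ρ h hp hl hlp (fun w => by
      apply Additive.toMul.injective
      exact Subtype.ext (hVl _ (Additive.toMul w).2)) (by
    obtain ⟨b, hb, hb1⟩ := hne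
    refine ⟨b, hb, fun hc => hb1 ?_⟩
    ext v
    have := DFunLike.congr_fun hc (Additive.ofMul v)
    exact congrArg (fun z : Additive V => ((Additive.toMul z : V) : G)) this)
  set z : V := Additive.toMul w with hz
  obtain ⟨g, hg⟩ := QuotientGroup.mk_surjective (φ y)
  have hgo : orderOf (g : G ⧸ V) = N := by rw [hg, orderOf_injective φ hφ, h.ord]
  -- the norm
  set n : V := Additive.toMul (∑ j ∈ range N, ρ (y ^ j) w) with hn
  have hn1 : n ≠ 1 := fun hc => hw (Additive.toMul.injective hc)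
  have hnl : (n : G) = ((List.range N).map fun i => g ^ i * (z : G) * (g ^ i)⁻¹).prod := by
    have h1 : ∀ (k : ℕ), ((Additive.toMul (∑ j ∈ range k, ρ (y ^ j) w) : V) : G) =
        ((List.range k).map fun i => g ^ i * (z : G) * (g ^ i)⁻¹).prod := by
      intro k
      induction k with
      | zero => rfl
      | succ k ih =>
        rw [sum_range_succ, List.range_succ, List.map_append, List.prod_append, List.map_singleton,
          List.prod_singleton, ← ih]
        change ((Additive.toMul (∑ j ∈ range k, ρ (y ^ j) w) : V) : G) * ((cact V hVc (φ (y ^ k)) z : V) : G) = _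
        rw [map_pow, ← hg, cact_pow_mk]
    exact h1 N
  have hfix : g * (n : G) * g⁻¹ = n := by
    have h1 : ρ y (∑ j ∈ range N, ρ (y ^ j) w) = ∑ j ∈ range N, ρ (y ^ j) w := by
      rw [map_sum]
      have h2 : ∀ j, ρ y (ρ (y ^ j) w) = ρ (y ^ (j + 1)) w := fun j => by
        rw [pow_succ', map_mul]
        rfl
      rw [sum_congr rfl fun j _ => h2 j]
      have h3 := sum_range_succ (fun j => ρ (y ^ j) w) N
      have h4 := sum_range_succ' (fun j => ρ (y ^ j) w) N
      rw [h3] at h4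
      have h5 : ρ (y ^ N) w = ρ (y ^ 0) w := by rw [← h.ord, pow_orderOf_eq_one, pow_zero]
      rw [h5] at h4
      exact (add_right_cancel h4).symm
    have h2 : cact V hVc (φ y) n = n := Additive.ofMul.injective h1
    rw [← hg] at h2
    have h3 := congrArg Subtype.val h2
    rwa [cact_mk] at h3
  have hcomm : Commute (n : G) g := by
    have h3 : g * (n : G) = n * g := by rwa [mul_inv_eq_iff_eq_mul] at hfix
    exact h3.symm
  have hn1' : (n : G) ≠ 1 := fun hc => hn1 (Subtype.ext hc)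
  refine ⟨fun hN hlN => order_of_comm hl hN hlN hVl n.2 hn1' hgo hcomm, ?_⟩
  intro b hb
  have := Fact.mk hl
  have key : ∀ x : G, (x : G ⧸ V) = g → x ^ N ≠ 1 → orderOf x = l ^ (b + 1) := by
    intro x hx hxN
    have hxV : x ^ N ∈ V := by
      rw [← QuotientGroup.eq_one_iff, QuotientGroup.mk_pow, hx, ← hgo, pow_orderOf_eq_one]
    refine orderOf_eq_prime_pow ?_ ?_
    · rw [← hb]
      exact hxN
    · rw [pow_succ, pow_mul, ← hb]
      exact hVl _ hxV
  by_cases hgN : g ^ N = 1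
  · refine ⟨z * g, key _ ?_ ?_⟩
    · rw [QuotientGroup.mk_mul, (QuotientGroup.eq_one_iff _).2 z.2, one_mul]
    · rw [mul_pow_conj, hgN, mul_one, ← hnl]
      exact hn1'
  · exact ⟨g, key g rfl hgN⟩

/-- the action of a simple group: trivial or faithful -/
theorem dich (hVc : ∀ a ∈ V, ∀ b ∈ V, a * b = b * a) {l : ℕ} (hl : l.Prime) (hVl : ∀ a ∈ V, a ^ l = 1) (hV1 : V ≠ ⊥)
    {L : Type v} [Group L] [IsSimpleGroup L] (φ : L →* G ⧸ V) (hφ : Function.Injective φ) :
    (∀ x : L, (orderOf x).Prime → l ≠ orderOf x → ∃ g : G, orderOf g = l * orderOf x) ∨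
      ∀ x : L, x ≠ 1 → cact V hVc (φ x) ≠ 1 := by
  rcases (MonoidHom.normal_ker ((cact V hVc).comp φ)).eq_bot_or_eq_top with h | h
  · right
    intro x hx hc
    apply hx
    rw [← Subgroup.mem_bot, ← h, MonoidHom.mem_ker]
    exact hc
  · left
    intro x hx hlx
    obtain ⟨v, hv1⟩ := (Subgroup.ne_bot_iff_exists_ne_one.1 hV1 : ∃ a : V, a ≠ 1)
    obtain ⟨g, hg⟩ := QuotientGroup.mk_surjective (φ x)
    refine order_of_comm hl hx hlx hVl v.2 (fun hc => hv1 (Subtype.ext hc)) (g := g) (by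
      rw [hg, orderOf_injective φ hφ]) ?_
    have h1 : cact V hVc (φ x) = 1 := by
      have : x ∈ ((cact V hVc).comp φ).ker := h ▸ mem_top x
      exact this
    rw [← hg] at h1
    have h2 := congrArg (fun a : MulAut V => ((a v : V) : G)) h1
    have h3 : g * (v : G) * g⁻¹ = v := h2
    have h4 : g * (v : G) = v * g := by rwa [mul_inv_eq_iff_eq_mul] at h3
    exact h4.symm

end ext

/-! ### The top chief factor -/

theorem exists_top {G : Type u} [Group G] [Finite G] (K : Subgroup G) [K.Normal] (hK : Group.IsSolvable K)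
    (hK1 : K ≠ ⊥) : ∃ (D : Subgroup G) (_ : D.Normal) (l : ℕ), l.Prime ∧ D ≤ K ∧ D ≠ K ∧
      (∀ a ∈ K, ∀ b ∈ K, a * b * a⁻¹ * b⁻¹ ∈ D) ∧ ∀ a ∈ K, a ^ l ∈ D := by
  classical
  obtain ⟨D, hD⟩ := (Set.toFinite {D : Subgroup G | D.Normal ∧ D ≤ K ∧ D ≠ K}).exists_maximal
    ⟨⊥, inferInstance, bot_le, hK1.symm⟩
  obtain ⟨⟨hDn, hDK, hDne⟩, hmax⟩ := hD
  have hmax' : ∀ E : Subgroup G, E.Normal → D ≤ E → E ≤ K → E = D ∨ E = K := by
    intro E hE hDE hEK
    by_cases h : E = K
    · exact Or.inr h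
    · exact Or.inl (le_antisymm (hmax ⟨hE, hEK, h⟩ hDE) hDE)
  -- the commutator subgroup
  have hcomm : ⁅K, K⁆ ≤ D := by
    rcases hmax' (D ⊔ ⁅K, K⁆) inferInstance le_sup_left (sup_le hDK (Subgroup.commutator_le_left K K)) with h | h
    · rw [← h]
      exact le_sup_right
    · exfalso
      -- `K / D` is perfect and solvable
      have hind : ∀ n, K ≤ D ⊔ (derivedSeries K n).map K.subtype := by
        intro n
        induction n with
        | zero =>
          rw [derivedSeries_zero, ← MonoidHom.range_eq_map, Subgroup.range_subtype]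
          exact le_sup_right
        | succ n ih =>
          have h1 : ⁅K, K⁆ ≤ D ⊔ (derivedSeries K (n + 1)).map K.subtype := by
            rw [derivedSeries_succ, Subgroup.map_commutator]
            set E := (derivedSeries K n).map K.subtype with hE
            have hEn : E.Normal := by
              have : (derivedSeries K n).Characteristic := inferInstance
              rw [hE]
              infer_instance
            calc ⁅K, K⁆ ≤ ⁅D ⊔ E, D ⊔ E⁆ := Subgroup.commutator_mono ih ih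
              _ ≤ D ⊔ ⁅E, E⁆ := by
                have : (D ⊔ ⁅E, E⁆).Normal := inferInstance
                rw [Subgroup.commutator_le]
                intro a ha b hb
                rw [← SetLike.mem_coe, Subgroup.mul_normal] at ha hb
                obtain ⟨d, hd, e, he, rfl⟩ := Set.mem_mul.1 ha
                obtain ⟨d', hd', e', he', rfl⟩ := Set.mem_mul.1 hb
                have h2 : (QuotientGroup.mk' (D ⊔ ⁅E, E⁆)) (⁅d * e, d' * e'⁆) = 1 := by
                  have hd1 : (QuotientGroup.mk' (D ⊔ ⁅E, E⁆)) d = 1 :=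
                    (QuotientGroup.eq_one_iff d).2 (le_sup_left (a := D) hd)
                  have hd2 : (QuotientGroup.mk' (D ⊔ ⁅E, E⁆)) d' = 1 :=
                    (QuotientGroup.eq_one_iff d').2 (le_sup_left (a := D) hd')
                  rw [map_commutatorElement, map_mul, map_mul, hd1, hd2, one_mul, one_mul, ← map_commutatorElement]
                  exact (QuotientGroup.eq_one_iff _).2 (le_sup_right (a := D) (Subgroup.commutator_mem_commutator he he'))
                exact (QuotientGroup.eq_one_iff _).1 h2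
          calc K = D ⊔ ⁅K, K⁆ := h.symm
            _ ≤ D ⊔ (derivedSeries K (n + 1)).map K.subtype := sup_le le_sup_left h1
      obtain ⟨n, hn⟩ := hK.1
      have h1 := hind n
      rw [hn, Subgroup.map_bot, sup_bot_eq] at h1
      exact hDne (le_antisymm hDK h1)
  have hc : ∀ a ∈ K, ∀ b ∈ K, a * b * a⁻¹ * b⁻¹ ∈ D := fun a ha b hb =>
    hcomm (Subgroup.commutator_mem_commutator ha hb)
  -- a prime divisor of `|K / D|`
  have hidx : (D.subgroupOf K).index ≠ 1 := by
    intro h
    rw [Subgroup.index_eq_one, Subgroup.subgroupOf_eq_top] at h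
    exact hDne (le_antisymm hDK h)
  obtain ⟨l, hl, hld⟩ := Nat.exists_prime_and_dvd hidx
  refine ⟨D, hDn, l, hl, hDK, hDne, hc, ?_⟩
  have hcm : ∀ a ∈ K, ∀ b ∈ K, (a : G ⧸ D) * b = b * a := by
    intro a ha b hb
    have h1 := (QuotientGroup.eq_one_iff (N := D) _).2 (hc a ha b hb)
    rw [QuotientGroup.mk_mul, QuotientGroup.mk_mul, QuotientGroup.mk_mul, QuotientGroup.mk_inv,
      QuotientGroup.mk_inv] at h1
    exact mul_inv_eq_iff_eq_mul.1 (mul_inv_eq_one.1 h1) 
  let E : Subgroup G :=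
    { carrier := {g | g ∈ K ∧ g ^ l ∈ D}
      one_mem' := ⟨K.one_mem, by rw [one_pow]; exact D.one_mem⟩
      mul_mem' := by
        rintro a b ⟨ha, ha1⟩ ⟨hb, hb1⟩
        refine ⟨K.mul_mem ha hb, ?_⟩
        rw [← QuotientGroup.eq_one_iff, QuotientGroup.mk_pow, QuotientGroup.mk_mul,
          (show Commute (a : G ⧸ D) b from hcm a ha b hb).mul_pow, ← QuotientGroup.mk_pow, ← QuotientGroup.mk_pow,
          (QuotientGroup.eq_one_iff _).2 ha1, (QuotientGroup.eq_one_iff _).2 hb1, one_mul]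
      inv_mem' := by
        rintro a ⟨ha, ha1⟩
        refine ⟨K.inv_mem ha, ?_⟩
        change (a⁻¹) ^ l ∈ D
        rw [inv_pow]
        exact D.inv_mem ha1 }
  have hmem : ∀ g, g ∈ E ↔ g ∈ K ∧ g ^ l ∈ D := fun g => Iff.rfl
  have hEn : E.Normal := by
    refine ⟨fun a ha g => ?_⟩
    rw [hmem] at ha ⊢
    refine ⟨Subgroup.Normal.conj_mem inferInstance a ha.1 g, ?_⟩
    rw [conj_pow]
    exact Subgroup.Normal.conj_mem inferInstance _ ha.2 g
  have hDE : D ≤ E := fun d hd => ⟨hDK hd, D.pow_mem hd l⟩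
  rcases hmax' E hEn hDE (fun g hg => hg.1) with h | h
  · exfalso
    have := Fact.mk hl
    rw [Subgroup.index_eq_card] at hld
    obtain ⟨x, hx⟩ := exists_prime_orderOf_dvd_card' (G := K ⧸ D.subgroupOf K) l hld
    obtain ⟨k, rfl⟩ := QuotientGroup.mk_surjective x
    have h1 : (k : G) ∈ E := by
      refine ⟨k.2, ?_⟩
      have h2 : ((k ^ l : K) : K ⧸ D.subgroupOf K) = 1 := by
        rw [QuotientGroup.mk_pow, ← hx, pow_orderOf_eq_one]
      exact (QuotientGroup.eq_one_iff (k ^ l)).1 h2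
    rw [h] at h1
    have h2 : (k : K ⧸ D.subgroupOf K) = 1 := (QuotientGroup.eq_one_iff _).2 h1
    rw [h2, orderOf_one] at hx
    exact hl.one_lt.ne hx
  · intro a ha
    have : a ∈ E := h ▸ ha
    exact this.2

end Cfsg.Agent.H407.MF
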